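import Cfsg.Agent.Lib.RankOne.Basic
import Cfsg.Prelude.Def_LieRecognition
import Cfsg.Prelude.Def_Exceptional
import Cfsg.Prelude.Def_Classical
import Cfsg.Prelude.Def_Sz

/-!
# Suzuki's theorem on split rank-one groups: interface

The statements exchanged between the sections of `notes/bender_suzuki_plan.md`.
-/

namespace Cfsg.Agent.Lib.BenderSuzuki

open MulAction Cfsg.Agent.Lib.RankOne.Basic

universe u v

variable (G : Type u) {Ω : Type v} [Group G] [MulAction G Ω]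

/-- The involutions of `G` fixing `a`. -/
abbrev invs (a : Ω) : Set G := Cfsg.involutionsIn (stabilizer G a : Set G)

/-- The number `q`: one more than the number of involutions fixing `a`. -/
noncomputable def qNum (a : Ω) : ℕ := Nat.card (invs G a) + 1

variable {G}

/-- The set `K` of elements of the two-point stabiliser inverted by `t`. -/
abbrev kSet (a : Ω) (t : G) : Set G := Cfsg.invertedBy (twoStab G a t) t

/-- The group `V = C_D(t)`. -/
abbrev vGrp (a : Ω) (t : G) : Subgroup G := twoStab G a t ⊓ Subgroup.centralizer {t}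

/-- The group `V₀ = C_D(I(G_a))`. -/
abbrev vKer (a : Ω) (t : G) : Subgroup G := twoStab G a t ⊓ Subgroup.centralizer (invs G a)

/-- Two distinct commuting involutions exist. -/
def TwoRank (G : Type u) [Group G] : Prop :=
  ∃ x y : G, x ≠ 1 ∧ y ≠ 1 ∧ x ≠ y ∧ x * x = 1 ∧ y * y = 1 ∧ x * y = y * x

/-- The hypothesis of Suzuki's theorem. -/
structure Hyp (G : Type u) (Ω : Type v) [Group G] [MulAction G Ω] (a : Ω) (t : G) (Q : Subgroup G) :
    Prop where
  setup : Cfsg.IsRankOneSetup G Ω a t Q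
  faithful : FaithfulSMul G Ω
  twoRank : TwoRank G

/-- `L` is `PSL₂(q)` inside the set-up. -/
def IsLinearCase (a : Ω) (t : G) (Q L : Subgroup G) : Prop :=
  Nat.card Q = qNum G a ∧ ((L ⊓ twoStab G a t : Subgroup G) : Set G) = kSet a t ∧
    ∃ (F : Type) (_ : Field F) (_ : Fintype F), Fintype.card F = qNum G a ∧
      (∃ n : ℕ, 2 ≤ n ∧ qNum G a = 2 ^ n) ∧
      Nonempty (L ≃* Matrix.ProjectiveSpecialLinearGroup (Fin 2) F)

/-- `L` is `Sz(q)` inside the set-up. -/
def IsSuzukiCase (a : Ω) (t : G) (Q L : Subgroup G) : Prop :=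
  Nat.card Q = qNum G a ^ 2 ∧ ((L ⊓ twoStab G a t : Subgroup G) : Set G) = kSet a t ∧
    Cfsg.Lie.IsoSuzuki L

/-- `L` is `PSU₃(q)` inside the set-up. -/
def IsUnitaryCase (a : Ω) (t : G) (Q L : Subgroup G) : Prop :=
  Nat.card Q = qNum G a ^ 3 ∧ L ⊓ vGrp a t ≤ vKer a t ∧
    Nat.card ↥(L ⊓ vGrp a t : Subgroup G) * Nat.gcd 3 (qNum G a + 1) = qNum G a + 1 ∧
    ∃ (F : Type) (_ : Field F) (_ : Fintype F) (n : ℕ), 2 ≤ n ∧ qNum G a = 2 ^ n ∧
      Fintype.card F = (2 ^ n) ^ 2 ∧ Nonempty (L ≃* Cfsg.PSU 3 F (2 ^ n))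

/-- What the induction carries: the conclusion of Suzuki's theorem together with the shape of `Q`
and of the two-point stabiliser in `L`. -/
def Good (G : Type u) (Ω : Type v) [Group G] [MulAction G Ω] (a : Ω) (t : G) (Q : Subgroup G) : Prop :=
  IsPGroup 2 Q ∧ ∃ L : Subgroup G, L.Normal ∧ Odd L.index ∧ Q ≤ L ∧ t ∈ L ∧
    (IsLinearCase a t Q L ∨ IsSuzukiCase a t Q L ∨ IsUnitaryCase a t Q L)

/-- The induction hypothesis: every set-up on a group of smaller order is good. -/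
def Below.{w, z} (n : ℕ) : Prop :=
  ∀ (G : Type w) (Ω : Type z) [Group G] [MulAction G Ω] [Finite G] (a : Ω) (t : G) (Q : Subgroup G),
    Nat.card G < n → Hyp G Ω a t Q → Good G Ω a t Q

/-- A minimal counterexample: set-up, induction hypothesis, and simplicity. -/
structure MinHyp (G : Type u) (Ω : Type v) [Group G] [MulAction G Ω] (a : Ω) (t : G) (Q : Subgroup G) :
    Prop extends Hyp G Ω a t Q where
  below : Below.{u, v} (Nat.card G)
  simple : IsSimpleGroup G

/-! ## The sections -/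

/-- §1 Reduction: a proof of the simple case by induction gives the theorem. -/
def PropReduction.{w, z} : Prop :=
  (∀ (G : Type w) (Ω : Type z) [Group G] [MulAction G Ω] [Finite G] (a : Ω) (t : G) (Q : Subgroup G),
      MinHyp G Ω a t Q → Good G Ω a t Q) →
    ∀ (G : Type w) (Ω : Type z) [Group G] [MulAction G Ω] [Finite G] (a : Ω) (t : G) (Q : Subgroup G),
      Hyp G Ω a t Q → Good G Ω a t Q

/-- The theorem. -/
def PropMain.{w, z} : Prop :=
  ∀ (G : Type w) (Ω : Type z) [Group G] [MulAction G Ω] [Finite G] (a : Ω) (t : G) (Q : Subgroup G),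
    Hyp G Ω a t Q → Good G Ω a t Q

/-- §3 The Zassenhaus case. -/
def PropZassenhaus.{w, z} : Prop :=
  ∀ (G : Type w) (Ω : Type z) [Group G] [MulAction G Ω] [Finite G] (a : Ω) (t : G) (Q : Subgroup G),
    Hyp G Ω a t Q → IsSimpleGroup G → vGrp a t = ⊥ → Good G Ω a t Q

/-- §4 The linear case: `Q` consists of involutions. -/
def PropLinear.{w, z} : Prop :=
  ∀ (G : Type w) (Ω : Type z) [Group G] [MulAction G Ω] [Finite G] (a : Ω) (t : G) (Q : Subgroup G),
    Hyp G Ω a t Q → Nat.card Q = qNum G a → Good G Ω a t Q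

/-- §5 An abelian 2-group `Q` is elementary abelian. -/
def PropAbelian.{w, z} : Prop :=
  ∀ (G : Type w) (Ω : Type z) [Group G] [MulAction G Ω] [Finite G] (a : Ω) (t : G) (Q : Subgroup G),
    Hyp G Ω a t Q → IsPGroup 2 Q → IsMulCommutative Q → Nat.card Q = qNum G a

/-- §2 Fixed points of an element of the two-point stabiliser: the section is good. -/
def PropSections.{w, z} : Prop :=
  ∀ (G : Type w) (Ω : Type z) [Group G] [MulAction G Ω] [Finite G] (a : Ω) (t : G) (Q : Subgroup G),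
    MinHyp G Ω a t Q → ∀ v ∈ twoStab G a t, v ≠ 1 →
      (∃ x y, x ∈ invs G a ∧ y ∈ invs G a ∧ x ≠ y ∧ v * x = x * v ∧ v * y = y * v) →
      IsPGroup 2 ↥(Subgroup.centralizer {v} ⊓ Q) ∧
        ∃ e ∈ ({1, 2, 3} : Set ℕ), Nat.card ↥(Subgroup.centralizer {v} ⊓ Q) =
          (Nat.card ↥(invs G a ∩ (Subgroup.centralizer {v} : Set G)) + 1) ^ e

/-- §2 (unitary sections): a section of order `q₀³` has a torus element of `V` acting non-trivially. -/
def PropSectionsUnitary.{w, z} : Prop :=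
  ∀ (G : Type w) (Ω : Type z) [Group G] [MulAction G Ω] [Finite G] (a : Ω) (t : G) (Q : Subgroup G),
    MinHyp G Ω a t Q → ∀ v ∈ twoStab G a t, v ≠ 1 → v * t = t * v →
      (∃ x y, x ∈ invs G a ∧ y ∈ invs G a ∧ x ≠ y ∧ v * x = x * v ∧ v * y = y * v) →
      Nat.card ↥(Subgroup.centralizer {v} ⊓ Q) =
          (Nat.card ↥(invs G a ∩ (Subgroup.centralizer {v} : Set G)) + 1) ^ 3 →
      ∃ d ∈ vGrp a t, d * v = v * d ∧ (∀ x ∈ invs G a, v * x = x * v → d * x = x * d) ∧
        ∃ ω : Ω, v • ω = ω ∧ d • ω ≠ ω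

/-- §6 `Q` is a 2-group. -/
def PropTwoGroup.{w, z} : Prop :=
  ∀ (G : Type w) (Ω : Type z) [Group G] [MulAction G Ω] [Finite G] (a : Ω) (t : G) (Q : Subgroup G),
    MinHyp G Ω a t Q → vGrp a t ≠ ⊥ → IsPGroup 2 Q

/-- §7 No field automorphisms in a simple group. -/
def PropNoGalois.{w, z} : Prop :=
  ∀ (G : Type w) (Ω : Type z) [Group G] [MulAction G Ω] [Finite G] (a : Ω) (t : G) (Q : Subgroup G),
    MinHyp G Ω a t Q → IsPGroup 2 Q → vKer a t = ⊥ → vGrp a t = ⊥

/-- §8 With `V₀ ≠ 1`, `|Q| = q³`. -/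
def PropOrder.{w, z} : Prop :=
  ∀ (G : Type w) (Ω : Type z) [Group G] [MulAction G Ω] [Finite G] (a : Ω) (t : G) (Q : Subgroup G),
    Hyp G Ω a t Q → IsPGroup 2 Q → vKer a t ≠ ⊥ → Nat.card Q = qNum G a ^ 3

/-- Coordinates of the unitary case on `Q`: pairs `(x, y)` over `F = GF(q²)` with
`y + y^q = x^(q+1)`, scalars of `GF(q)` from `K` and some non-trivial unit of norm one from `V`. -/
structure Coords (G : Type u) {Ω : Type v} [Group G] [MulAction G Ω] (a : Ω) (t : G) (Q : Subgroup G)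
    (F : Type) [Field F] (q : ℕ) (c : G → F × F) : Prop where
  bijOn : Set.BijOn c (Q : Set G) {p | p.2 + p.2 ^ q = p.1 ^ (q + 1)}
  mul : ∀ x ∈ Q, ∀ y ∈ Q, c (x * y) =
    ((c x).1 + (c y).1, (c x).2 + (c y).2 + (c x).1 ^ q * (c y).1)
  torus : ∀ l : F, l ^ q = l → l ≠ 0 → ∃ k ∈ kSet a t, ∀ x ∈ Q,
    c (k * x * k⁻¹) = (l * (c x).1, l ^ 2 * (c x).2)
  unit : ∃ (w : G) (m : F), w ∈ vGrp a t ∧ m ≠ 1 ∧ m ^ (q + 1) = 1 ∧ ∀ x ∈ Q,
    c (w * x * w⁻¹) = (m * (c x).1, (c x).2)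

/-- §9 Coordinates when `|Q| = q³`. -/
def PropCoords.{w, z} : Prop :=
  ∀ (G : Type w) (Ω : Type z) [Group G] [MulAction G Ω] [Finite G] (a : Ω) (t : G) (Q : Subgroup G),
    Hyp G Ω a t Q → IsPGroup 2 Q → Nat.card Q = qNum G a ^ 3 → vKer a t ≠ ⊥ →
      ∃ (F : Type) (_ : Field F) (_ : Fintype F) (c : G → F × F),
        Fintype.card F = qNum G a ^ 2 ∧ Coords G a t Q F (qNum G a) c

/-- §10 Identification of `PSU₃(q)`. -/
def PropUnitary.{w, z} : Prop :=
  ∀ (G : Type w) (Ω : Type z) [Group G] [MulAction G Ω] [Finite G] (a : Ω) (t : G) (Q : Subgroup G)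
    (F : Type) [Field F] [Fintype F] (c : G → F × F),
    Hyp G Ω a t Q → Fintype.card F = qNum G a ^ 2 → Coords G a t Q F (qNum G a) c → Good G Ω a t Q

end Cfsg.Agent.Lib.BenderSuzuki
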