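import Cfsg.Agent.Lib.BenderSuzuki.Interface
import Cfsg.Agent.S1132
import Cfsg.Agent.S1137
import Cfsg.Agent.S1138

/-!
# §8 The order of `Q`

A 2-group `Q` is abelian or has order `q²` or `q³`; with `|Q| = q²`, or `Q` abelian, no non-trivial
element of `D` centralises the involutions of `G_a`, so `V₀ ≠ 1` gives `|Q| = q³`.
-/

set_option autoImplicit false
set_option linter.unusedSectionVars false

namespace Cfsg.Agent.Lib.BenderSuzuki

open MulAction Cfsg.Agent.Lib.RankOne.Basic Cfsg.Agent.Lib.RankOne.Involution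
open Cfsg.Agent.Lib.RankOne.Nilpotent

universe w z

section

variable {G : Type w} {Ω : Type z} [Group G] [MulAction G Ω] [Finite G] {a : Ω} {t : G}
  {Q : Subgroup G} (h : Hyp G Ω a t Q)

include h

theorem sq_one_iff {x : G} (hx : x ∈ Q) : x * x = 1 ↔ x = 1 ∨ x ∈ invs G a := by
  refine ⟨fun h2 => or_iff_not_imp_left.2 fun h1 => ⟨h.setup.le hx, h1, h2⟩, ?_⟩
  rintro (rfl | hx')
  · exact one_mul 1
  · exact hx'.2.2

theorem mem_Q_of_invs {x : G} (hx : x ∈ invs G a) : x ∈ Q :=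
  involutions_stab_mem_Q h.setup hx.1 hx.2.2

theorem qNum_eq_card : qNum G a = Nat.card {x : Q // x * x = 1} := by
  classical
  rw [qNum, ← Finite.card_option]
  refine Nat.card_eq_of_bijective (fun o => o.elim ⟨1, one_mul 1⟩ fun s =>
    ⟨⟨s, mem_Q_of_invs h s.2⟩, Subtype.ext s.2.2.2⟩) ⟨?_, ?_⟩
  · rintro (_ | s) (_ | s') e
    · rfl
    · exact absurd (congrArg (fun x : {x : Q // x * x = 1} => ((x : Q) : G)) e).symm s'.2.2.1
    · exact absurd (congrArg (fun x : {x : Q // x * x = 1} => ((x : Q) : G)) e) s.2.2.1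
    · exact congrArg some (Subtype.ext (congrArg (fun x : {x : Q // x * x = 1} => ((x : Q) : G)) e))
  · rintro ⟨⟨x, hx⟩, hx2⟩
    rcases (sq_one_iff h hx).1 (congrArg Subtype.val hx2) with rfl | hxi
    · exact ⟨none, rfl⟩
    · exact ⟨some ⟨x, hxi⟩, rfl⟩

/-- A non-abelian `Q` is a Suzuki 2-group with the involutions as centre. -/
theorem nonabelian_structure (hQ : IsPGroup 2 Q) (hna : ¬ IsMulCommutative Q) :
    (∀ x : Q, x * x = 1 ↔ x ∈ Subgroup.center Q) ∧ (∀ x : Q, x * x ∈ Subgroup.center Q) ∧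
      (∀ x y : Q, x⁻¹ * y⁻¹ * x * y ∈ Subgroup.center Q) ∧
      (Nat.card Q = qNum G a ^ 2 ∨ Nat.card Q = qNum G a ^ 3) := by
  classical
  haveI : Fact (Nat.Prime 2) := ⟨Nat.prime_two⟩
  haveI := h.faithful
  let S : Sylow 2 ↥Q := IsPGroup.toSylow (hQ.to_subgroup ⊤) (by
    rw [Subgroup.index_top]; exact Nat.prime_two.not_dvd_one)
  have hS : (S : Subgroup ↥Q) = ⊤ := rfl
  have hmem : ∀ x : Q, x ∈ (S : Subgroup ↥Q) := fun x => by rw [hS]; exact Subgroup.mem_top x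
  let e : ↥(S : Subgroup ↥Q) ≃* ↥Q := (MulEquiv.subgroupCongr hS).trans Subgroup.topEquiv
  rcases Cfsg.Agent.S1132.result h.setup h.twoRank S with hc | hsz
  · exact absurd ⟨⟨fun x y => congrArg Subtype.val (hc.is_comm.comm ⟨x, hmem x⟩ ⟨y, hmem y⟩)⟩⟩ hna
  obtain ⟨h1, h2⟩ := Cfsg.Agent.S1137.result hsz
  obtain ⟨h3, h4, h5, -⟩ := Cfsg.Agent.S1138.result hsz
  have hcen : ∀ x : Q, x ∈ Subgroup.center Q ↔
      (⟨x, hmem x⟩ : ↥(S : Subgroup ↥Q)) ∈ Subgroup.center ↥(S : Subgroup ↥Q) := by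
    intro x
    simp only [Subgroup.mem_center_iff]
    exact ⟨fun hh g => Subtype.ext (hh g.1), fun hh g => congrArg Subtype.val (hh ⟨g, hmem g⟩)⟩
  have hiff : ∀ x : Q, x * x = 1 ↔ x ∈ Subgroup.center Q := by
    intro x
    rw [hcen]
    refine ⟨fun hx => ?_, fun hx => congrArg Subtype.val (h2 _ hx)⟩
    by_cases hx1 : x = 1
    · subst hx1; exact one_mem _
    · exact ((h1 ⟨x, hmem x⟩).1 ⟨fun e => hx1 (congrArg Subtype.val e), Subtype.ext hx⟩).1
  refine ⟨hiff, fun x => (hcen _).2 (h3 ⟨x, hmem x⟩), fun x y => (hcen _).2 (h4 ⟨x, hmem x⟩ ⟨y, hmem y⟩),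
    ?_⟩
  have hz : Nat.card (Subgroup.center ↥(S : Subgroup ↥Q)) = qNum G a := by
    rw [qNum_eq_card h]
    refine Nat.card_congr (e.toEquiv.subtypeEquiv fun x => ?_)
    show x ∈ Subgroup.center ↥(S : Subgroup ↥Q) ↔ (x : ↥Q) * (x : ↥Q) = 1
    rw [hiff, hcen]
  rwa [hz, Nat.card_congr e.toEquiv] at h5

/-- The possible orders of a 2-group `Q`, given §5. -/
theorem card_cases (hAb : PropAbelian.{w, z}) (hQ : IsPGroup 2 Q) :
    Nat.card Q = qNum G a ∨ Nat.card Q = qNum G a ^ 2 ∨ Nat.card Q = qNum G a ^ 3 := by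
  by_cases hc : IsMulCommutative Q
  · exact Or.inl (hAb G Ω a t Q h hQ hc)
  · exact Or.inr (nonabelian_structure h hQ hc).2.2.2

/-- Conjugation by an element of `D` on `Q`. -/
theorem conj_pow_translate {v : G} (hv : v ∈ twoStab G a t) {x z : G} (hxz : v * x * v⁻¹ = x * z)
    (hzv : v * z * v⁻¹ = z) (hz : z * z = 1) : z = 1 := by
  have hk : ∀ k : ℕ, v ^ k * x * (v ^ k)⁻¹ = x * z ^ k := by
    intro k
    induction k with
    | zero => simp
    | succ k ih =>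
      calc v ^ (k + 1) * x * (v ^ (k + 1))⁻¹ = v * (v ^ k * x * (v ^ k)⁻¹) * v⁻¹ := by
            rw [pow_succ']; group
        _ = v * x * v⁻¹ * (v * z * v⁻¹) ^ k := by rw [ih, conj_pow]; group
        _ = x * z ^ (k + 1) := by rw [hxz, hzv, pow_succ', mul_assoc]
  have h1 := hk (Nat.card (twoStab G a t))
  rw [pow_card_eq_one_mem hv, one_mul, inv_one, mul_one, left_eq_mul] at h1
  obtain ⟨j, hj⟩ := h.setup.odd_card
  change Nat.card (twoStab G a t) = 2 * j + 1 at hj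
  rw [hj, pow_succ, pow_mul, sq, hz, one_pow, one_mul] at h1
  exact h1

theorem eq_one_of_centralizes {v : G} (hv : v ∈ twoStab G a t)
    (hc : ∀ x ∈ Q, v * x * v⁻¹ = x) : v = 1 := by
  haveI := h.faithful
  refine eq_of_smul_eq_smul (α := Ω) fun c => ?_
  rw [one_smul]
  by_cases hca : c = a
  · rw [hca]; exact hv.1
  obtain ⟨x, hx, rfl⟩ := Q_trans h.setup (t_smul_ne h.setup) hca
  rw [← mul_smul, mul_inv_eq_iff_eq_mul.1 (hc x hx), mul_smul, show v • t • a = t • a from hv.2]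

theorem vKer_fix_invol {v : G} (hv : v ∈ vKer a t) {x : G} (hx : x ∈ Q) (hx2 : x * x = 1) :
    v * x * v⁻¹ = x := by
  rcases (sq_one_iff h hx).1 hx2 with rfl | hxi
  · simp
  · rw [← Subgroup.mem_centralizer_iff.1 hv.2 x hxi, mul_inv_cancel_right]

/-- An element of `V₀` centralises an abelian `Q`. -/
theorem vKer_comm (hQ : IsPGroup 2 Q) (hc : IsMulCommutative Q) {v : G} (hv : v ∈ vKer a t) :
    ∀ x ∈ Q, v * x * v⁻¹ = x := by
  have key : ∀ j : ℕ, ∀ x ∈ Q, x ^ 2 ^ j = 1 → v * x * v⁻¹ = x := by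
    intro j
    induction j with
    | zero =>
      intro x _ hx
      rw [pow_zero, pow_one] at hx
      subst hx
      simp
    | succ j ih =>
      intro x hxQ hx
      have hsq : v * (x * x) * v⁻¹ = x * x :=
        ih _ (mul_mem hxQ hxQ) (by rw [← sq, ← pow_mul, ← pow_succ']; exact hx)
      have hy : v * x * v⁻¹ ∈ Q := twoStab_norm h.setup hv.1 hxQ
      obtain ⟨z, hz⟩ : ∃ z, v * x * v⁻¹ = x * z := ⟨x⁻¹ * (v * x * v⁻¹), by group⟩
      have hzQ : z ∈ Q := by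
        rw [show z = x⁻¹ * (v * x * v⁻¹) by rw [hz]; group]
        exact mul_mem (inv_mem hxQ) hy
      have hxz : z * x = x * z :=
        congrArg Subtype.val (hc.is_comm.comm (⟨z, hzQ⟩ : Q) ⟨x, hxQ⟩)
      have hz2 : z * z = 1 := by
        have : x * z * (x * z) = x * x := by
          rw [← hz, show v * x * v⁻¹ * (v * x * v⁻¹) = v * (x * x) * v⁻¹ by group, hsq]
        refine mul_left_cancel (a := x * x) ?_
        calc x * x * (z * z) = x * (x * z) * z := by group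
          _ = x * (z * x) * z := by rw [hxz]
          _ = x * z * (x * z) := by group
          _ = x * x * 1 := by rw [this, mul_one]
      rw [hz, conj_pow_translate h hv.1 hz (vKer_fix_invol h hv hzQ hz2) hz2, mul_one]
  intro x hx
  obtain ⟨j, hj⟩ := hQ ⟨x, hx⟩
  exact key j x hx (congrArg Subtype.val hj)

/-- An element of `V₀` centralises `Q` of order `q²`. -/
theorem vKer_sq (hQ : IsPGroup 2 Q) (hna : ¬ IsMulCommutative Q)
    (hcard : Nat.card Q = qNum G a ^ 2) {v : G} (hv : v ∈ vKer a t) :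
    ∀ x ∈ Q, v * x * v⁻¹ = x := by
  classical
  obtain ⟨hiff, hsq, -, -⟩ := nonabelian_structure h hQ hna
  let Z := Subgroup.center Q
  have hZ : Nat.card Z = qNum G a := by
    rw [qNum_eq_card h]
    exact Nat.card_congr (Equiv.subtypeEquivRight fun x => (hiff x).symm)
  have hquot : Nat.card (Q ⧸ Z) = Nat.card Z := by
    have := Subgroup.card_eq_card_quotient_mul_card_subgroup Z
    rw [hcard, hZ, sq] at this
    rw [hZ]
    exact (Nat.eq_of_mul_eq_mul_right (hZ ▸ Nat.card_pos) this).symm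
  have hcen : ∀ {z : Q}, z ∈ Z → ∀ y : Q, y * z = z * y := fun hz y => Subgroup.mem_center_iff.1 hz y
  let s : Q ⧸ Z → Z := Quotient.lift (fun x : Q => (⟨x * x, hsq x⟩ : Z)) fun x y hxy => by
    have hz : x⁻¹ * y ∈ Z := QuotientGroup.leftRel_apply.1 hxy
    refine Subtype.ext (?_ : x * x = y * y)
    calc x * x = x * x * ((x⁻¹ * y) * (x⁻¹ * y)) := by rw [(hiff _).2 hz, mul_one]
      _ = x * (x * (x⁻¹ * y)) * (x⁻¹ * y) := by group
      _ = x * ((x⁻¹ * y) * x) * (x⁻¹ * y) := by rw [hcen hz x]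
      _ = y * y := by group
  -- squaring is onto the centre
  obtain ⟨x₀, hx₀⟩ : ∃ x₀ : Q, x₀ ∉ Z := by
    by_contra hall
    push Not at hall
    exact hna ⟨⟨fun x y => (hcen (hall x) y).symm⟩⟩
  have hsurj : Function.Surjective s := by
    rintro ⟨z, hz⟩
    by_cases hz1 : z = 1
    · exact ⟨((1 : Q) : Q ⧸ Z), Subtype.ext (show (1 : Q) * 1 = z by rw [hz1, one_mul])⟩
    have hsq1 : x₀ * x₀ ≠ 1 := fun e => hx₀ ((hiff _).1 e)
    have hinv : ∀ y : Q, y ≠ 1 → y * y = 1 → (y : G) ∈ invs G a := fun y hy1 hy2 =>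
      ((sq_one_iff h y.2).1 (congrArg Subtype.val hy2)).resolve_left fun e => hy1 (Subtype.ext e)
    obtain ⟨k, ⟨hk, hkz⟩, -⟩ := existsUnique_K h.setup (hinv _ hsq1 ((hiff _).2 (hsq x₀)))
      (hinv z hz1 ((hiff z).2 hz))
    refine ⟨((⟨k * (x₀ : G) * k⁻¹, twoStab_norm h.setup hk.1 x₀.2⟩ : Q) : Q ⧸ Z),
      Subtype.ext (Subtype.ext ?_)⟩
    show k * (x₀ : G) * k⁻¹ * (k * (x₀ : G) * k⁻¹) = z
    rw [← hkz, Subgroup.coe_mul]
    group
  have hinj : Function.Injective s :=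
    ((Nat.bijective_iff_surjective_and_card s).2 ⟨hsurj, hquot⟩).1
  intro x hxQ
  set y : Q := ⟨v * x * v⁻¹, twoStab_norm h.setup hv.1 hxQ⟩
  have hyx : ((⟨x, hxQ⟩ : Q) : Q ⧸ Z) = (y : Q ⧸ Z) := hinj (Subtype.ext (Subtype.ext (by
    show x * x = v * x * v⁻¹ * (v * x * v⁻¹)
    rw [show v * x * v⁻¹ * (v * x * v⁻¹) = v * (x * x) * v⁻¹ by group,
      vKer_fix_invol h hv (mul_mem hxQ hxQ)
        (congrArg Subtype.val ((hiff _).2 (hsq ⟨x, hxQ⟩)))])))
  have hzZ := QuotientGroup.eq.1 hyx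
  have hz2 : x⁻¹ * (v * x * v⁻¹) * (x⁻¹ * (v * x * v⁻¹)) = 1 :=
    congrArg Subtype.val ((hiff _).2 hzZ)
  have e := conj_pow_translate h hv.1 (x := x) (z := x⁻¹ * (v * x * v⁻¹)) (by group)
    (vKer_fix_invol h hv ((⟨x, hxQ⟩ : Q)⁻¹ * y).2 hz2) hz2
  rw [inv_mul_eq_one] at e
  exact e.symm

end

/-- §8 With `V₀ ≠ 1`, `|Q| = q³`. -/
theorem propOrder : PropOrder.{w, z} := by
  intro G Ω _ _ _ a t Q h hQ hne
  obtain ⟨v, hv, hv1⟩ : ∃ v ∈ vKer a t, v ≠ 1 := by
    by_contra hall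
    push Not at hall
    exact hne ((Subgroup.eq_bot_iff_forall _).2 hall)
  by_cases hc : IsMulCommutative Q
  · exact absurd (eq_one_of_centralizes h hv.1 (vKer_comm h hQ hc hv)) hv1
  · exact (nonabelian_structure h hQ hc).2.2.2.resolve_left fun hcard =>
      hv1 (eq_one_of_centralizes h hv.1 (vKer_sq h hQ hc hcard hv))

end Cfsg.Agent.Lib.BenderSuzuki
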