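import Cfsg.Agent.Lib.BenderSuzuki.Interface
import Cfsg.Agent.Lib.SuzukiKernel.Main
import Cfsg.Agent.Lib.Zassenhaus.AbelianCases
import Cfsg.Agent.Lib.RankOne.Nilpotent
import Cfsg.Agent.Lib.RankOneIdent.Suzuki.Main
import Cfsg.Agent.S0345
import Cfsg.Agent.S4702

/-!
# §3 The Zassenhaus case: `V = 1`

If `C_D(t) = 1` then `D` consists of inverted elements, so a non-identity element fixes at most two
points and a simple `G` is a Zassenhaus group with kernel `Q`.
-/

set_option autoImplicit false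
set_option linter.unusedSectionVars false

namespace Cfsg.Agent.Lib.BenderSuzuki

open MulAction Cfsg.Agent.Lib.RankOne.Basic Cfsg.Agent.Lib.Zassenhaus

universe w z

/-- The recognition of the Suzuki groups among simple Zassenhaus groups. -/
def PropSuzukiIso : Prop :=
  ∀ (G : Type w) (Ω : Type z) [Group G] [MulAction G Ω] [Finite G] [Finite Ω] [IsSimpleGroup G],
    Cfsg.IsZassenhausGroup G Ω → ∀ (a b : Ω) (U : Subgroup G), a ≠ b → RegKernel a b U →
      IsPGroup 2 U → (∃ u v : U, u * v ≠ v * u) → Cfsg.Lie.IsoSuzuki G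

private theorem center_sl_two_eq_bot {F : Type} [Field F] [CharP F 2] :
    Subgroup.center (Matrix.SpecialLinearGroup (Fin 2) F) = ⊥ := by
  rw [Subgroup.eq_bot_iff_forall]
  intro A hA
  obtain ⟨r, hr, hA'⟩ := Matrix.SpecialLinearGroup.mem_center_iff.1 hA
  rw [Fintype.card_fin] at hr
  have hr1 : r = 1 := CharTwo.sq_injective (by simpa using hr)
  refine Subtype.ext ?_
  rw [← hA', hr1, map_one]
  rfl

/-- The sharply triply transitive case, with the order of the field. -/
theorem psl_of_sharp_card {G Ω : Type*} [Group G] [MulAction G Ω] [Finite Ω]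
    (hZ : Cfsg.IsZassenhausGroup G Ω) {a b : Ω} (hab : a ≠ b) (hn : Odd (Nat.card Ω))
    (h3 : IsMultiplyPretransitive G Ω 3) :
    ∃ (F : Type) (_ : Field F) (_ : Fintype F), (∃ k : ℕ, Fintype.card F = 2 ^ k) ∧
      Fintype.card F + 1 = Nat.card Ω ∧
      Nonempty (G ≃* Matrix.ProjectiveSpecialLinearGroup (Fin 2) F) := by
  classical
  have := faithful hZ
  have := Fintype.ofFinite Ω
  obtain ⟨c, hca, hcb⟩ := exists_third hZ a b
  have hcard : 3 ≤ Fintype.card Ω := Fintype.two_lt_card_iff.2 ⟨a, b, c, hab, hca.symm, hcb.symm⟩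
  let H := (MulAction.toPermHom G Ω).range
  have hinj : Function.Injective (MulAction.toPermHom G Ω) := fun g h e =>
    eq_of_smul_eq_smul fun w : Ω => congrArg (fun f : Equiv.Perm Ω => f w) e
  have hH3 : IsMultiplyPretransitive H Ω 3 := ⟨fun x y => by
    obtain ⟨g, hg⟩ := h3.exists_smul_eq x y
    exact ⟨⟨_, g, rfl⟩, Function.Embedding.ext fun i => congrArg (fun t : Fin 3 ↪ Ω => t i) hg⟩⟩
  have hfix : ∀ g : H, 3 ≤ Nat.card (fixedBy Ω g) → g = 1 := by
    rintro ⟨_, g, rfl⟩ hg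
    rw [Nat.card_eq_fintype_card] at hg
    obtain ⟨⟨x, hx⟩, ⟨y, hy⟩, ⟨z, hz⟩, h1, h2, h4⟩ := Fintype.two_lt_card_iff.1 hg
    have e : g = 1 := eq_one_of_three hZ (fun e => h1 (Subtype.ext e)) (fun e => h4 (Subtype.ext e))
      (fun e => h2 (Subtype.ext e)) hx hy hz
    subst e
    exact Subtype.ext (map_one _)
  obtain ⟨k, -, hΩ, F, fF, ffF, hF, ⟨e⟩⟩ := Cfsg.Agent.S4702.result hcard
    (by rwa [← Nat.card_eq_fintype_card]) H hH3 hfix
  have : Fact (Nat.Prime 2) := ⟨Nat.prime_two⟩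
  have : CharP F 2 := charP_of_card_eq_prime_pow (f := k) hF
  let e' : Matrix.SpecialLinearGroup (Fin 2) F ≃* Matrix.ProjectiveSpecialLinearGroup (Fin 2) F :=
    ((QuotientGroup.quotientMulEquivOfEq center_sl_two_eq_bot).trans
      QuotientGroup.quotientBot).symm
  exact ⟨F, fF, ffF, ⟨k, hF⟩, by rw [hF, Nat.card_eq_fintype_card, hΩ],
    ⟨((MonoidHom.ofInjective hinj).trans e).trans e'⟩⟩

section Setup

variable {G : Type w} {Ω : Type z} [Group G] [MulAction G Ω] [Finite G] {a : Ω} {t : G}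
  {Q : Subgroup G} (h : Hyp G Ω a t Q) (hV : vGrp a t = ⊥)

include h hV

theorem kSet_eq_twoStab : kSet a t = ((twoStab G a t : Subgroup G) : Set G) := by
  refine Set.Subset.antisymm (fun k hk => hk.1) fun d hd => ?_
  obtain ⟨c, hc, k, hk, hct, rfl⟩ := exists_CK h.setup hd
  have hcV : c ∈ vGrp a t := ⟨hc, Subgroup.mem_centralizer_iff.2 fun x hx => by
    rw [Set.mem_singleton_iff.1 hx]
    exact mul_inv_eq_iff_eq_mul.1 hct⟩
  rw [hV, Subgroup.mem_bot] at hcV
  rw [hcV, one_mul]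
  exact hk

theorem qNum_eq : qNum G a = Nat.card (twoStab G a t) + 1 := by
  rw [qNum, ← card_invertedBy h.setup]
  have := kSet_eq_twoStab h hV
  rw [kSet] at this
  rw [this]
  rfl

theorem eq_one_of_fix_three {g : G} {x y z : Ω} (hxy : x ≠ y) (hyz : y ≠ z) (hxz : x ≠ z)
    (hx : g • x = x) (hy : g • y = y) (hz : g • z = z) : g = 1 := by
  obtain ⟨c, hca, hcb⟩ := exists_pair h.setup hxy (t_smul_ne h.setup).symm
  have hfix : ∀ {u : Ω}, g • u = u → (c * g * c⁻¹) • (c • u) = c • u := fun {u} hu => by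
    rw [mul_smul, mul_smul, inv_smul_smul, hu]
  have hk : c * g * c⁻¹ ∈ kSet a t := by
    rw [kSet_eq_twoStab h hV]
    exact ⟨hca ▸ hfix hx, hcb ▸ hfix hy⟩
  have h1 := inverted_fix_three h.setup hk ⟨c • x, c • y, c • z,
    fun e => hxy (MulAction.injective c e), fun e => hxz (MulAction.injective c e),
    fun e => hyz (MulAction.injective c e), hfix hx, hfix hy, hfix hz⟩
  simpa using h1

theorem isZassenhausGroup [IsSimpleGroup G] : Cfsg.IsZassenhausGroup G Ω := by
  have := h.faithful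
  obtain ⟨k, hk, hk1⟩ := RankOne.Nilpotent.exists_inverted_ne_one h.setup h.twoRank
  refine ⟨h.faithful, h.setup.two_transitive,
    fun g x y z => eq_one_of_fix_three h hV, ⟨k, hk1, a, t • a, (t_smul_ne h.setup).symm,
      hk.1.1, hk.1.2⟩, fun N hN htr => ⟨a, fun hbot => ?_⟩⟩
  rcases IsSimpleGroup.eq_bot_or_eq_top_of_normal N hN with rfl | rfl
  · obtain ⟨⟨n, hn⟩, hn'⟩ := htr.exists_smul_eq a (t • a)
    rw [Subgroup.mem_bot] at hn
    subst hn
    exact t_smul_ne h.setup (hn'.symm.trans (one_smul G a))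
  · have hmem : (⟨k, Subgroup.mem_top k⟩ : (⊤ : Subgroup G)) ∈ stabilizer (⊤ : Subgroup G) a :=
      hk.1.1
    rw [hbot, Subgroup.mem_bot] at hmem
    exact hk1 (congrArg Subtype.val hmem)

theorem regKernel : RegKernel a (t • a) Q where
  le := h.setup.le
  conj g hg u hu := h.setup.conj_mem g hg u hu
  reg x hx := by
    obtain ⟨q, hq, hqx⟩ := Q_trans h.setup (t_smul_ne h.setup) hx
    exact ⟨⟨q, hq⟩, hqx, fun y hy => Subtype.ext (Q_smul_inj h.setup y.2 hq
      (t_smul_ne h.setup) (hy.trans hqx.symm))⟩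

theorem good_of_simple [IsSimpleGroup G] (hSz : PropSuzukiIso.{w, z}) : Good G Ω a t Q := by
  classical
  have := finiteOmega h.setup
  have hZ := isZassenhausGroup h hV
  have hU := regKernel h hV
  have hab : a ≠ t • a := (t_smul_ne h.setup).symm
  have hn : Odd (Nat.card Ω) := by
    rw [card_omega h.setup]
    exact Even.add_one h.setup.even_card
  have hL : ((⊤ ⊓ twoStab G a t : Subgroup G) : Set G) = kSet a t := by
    rw [top_inf_eq, kSet_eq_twoStab h hV]
  have hq := qNum_eq h hV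
  have hQΩ := card_omega h.setup
  rcases odd_degree hZ hab hU hn with hd | ⟨hU2, hna, -⟩
  · obtain ⟨F, fF, ffF, ⟨m, hm⟩, hF, ⟨e⟩⟩ :=
      psl_of_sharp_card hZ hab hn (sharply_of_card hZ hab hd).1
    have hcardQ : Nat.card Q = qNum G a := by
      change Nat.card ↥(twoStab G a t) + 2 = _ at hd
      omega
    have hFq : Fintype.card F = qNum G a := by omega
    have hQ2 : IsPGroup 2 Q := IsPGroup.of_card (n := m) (by rw [hcardQ, ← hFq, hm])
    refine ⟨hQ2, ⊤, inferInstance, by simp, le_top, Subgroup.mem_top t,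
      Or.inl ⟨hcardQ, hL, F, fF, ffF, hFq, ⟨m, ?_, hFq.symm.trans hm⟩,
        ⟨Subgroup.topEquiv.trans e⟩⟩⟩
    obtain ⟨s, s', hs, hs', hne⟩ := RankOne.Nilpotent.exists_two_involutions h.setup h.twoRank
    have h3 : 1 < Nat.card (invs G a) := by
      rw [Nat.card_coe_set_eq, Set.one_lt_ncard]
      exact ⟨s, hs, s', hs', hne⟩
    have h4 : 2 < 2 ^ m := by
      rw [← hm, hFq, qNum]
      omega
    by_contra hm2
    interval_cases m <;> norm_num at h4
  · obtain ⟨k, -, -, -, hd, hcard, -, -⟩ := SuzukiKernel.structure_thm hZ hab hU hU2 hna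
      (Cfsg.Agent.S0345.result hZ hab).1
    have hqk : qNum G a = 2 ^ k := by
      have := Nat.one_le_two_pow (n := k)
      change Nat.card ↥(twoStab G a t) = _ at hd
      omega
    obtain ⟨F, fF, ffF, m, hm, hFc, ⟨e⟩⟩ := hSz G Ω hZ a (t • a) Q hab hU hU2 hna
    exact ⟨hU2, ⊤, inferInstance, by simp, le_top, Subgroup.mem_top t,
      Or.inr (Or.inl ⟨by rw [hcard, hqk], hL, F, fF, ffF, m, hm, hFc,
        ⟨Subgroup.topEquiv.trans e⟩⟩)⟩

end Setup

/-- §3, given the recognition of the Suzuki groups. -/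
theorem propZassenhaus_of (hSz : PropSuzukiIso.{w, z}) : PropZassenhaus.{w, z} :=
  fun _ _ _ _ _ _ _ _ h hsimple hV => @good_of_simple _ _ _ _ _ _ _ _ h hV hsimple hSz

/-- §3 The Zassenhaus case. -/
theorem propZassenhaus : PropZassenhaus.{w, z} :=
  propZassenhaus_of fun G Ω _ _ _ _ _ hZ a b U hab hU hU2 hna =>
    Cfsg.Agent.Lib.RankOneIdent.Suzuki.isoSuzuki hZ hab hU hU2 hna

end Cfsg.Agent.Lib.BenderSuzuki
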