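import Cfsg.Agent.Lib.BenderSuzuki.Reduction.Main
import Cfsg.Agent.Lib.BenderSuzuki.Zassenhaus
import Cfsg.Agent.Lib.BenderSuzuki.TwoGroup.Main
import Cfsg.Agent.Lib.BenderSuzuki.Abelian.Main
import Cfsg.Agent.Lib.BenderSuzuki.NoGalois.Main
import Cfsg.Agent.Lib.BenderSuzuki.Order
import Cfsg.Agent.Lib.BenderSuzuki.Coords.Main
import Cfsg.Agent.Lib.RankOneIdent.PSU3.Main

/-!
# Suzuki's theorem on split rank-one groups: assembly of the sections

`propMain` is the theorem.
-/

set_option autoImplicit false

namespace Cfsg.Agent.Lib.BenderSuzuki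

universe u v

/-- Suzuki's theorem from §9 and §10. -/
theorem mainOf (hC : PropCoords.{u, v}) (hU : PropUnitary.{u, v}) : PropMain.{u, v} :=
  Reduction.main_of propZassenhaus TwoGroup.propTwoGroup
    (NoGalois.noGalois Abelian.Main.propAbelian) propOrder hC hU

/-- Suzuki's theorem from §9. -/
theorem mainOfCoords (hC : PropCoords.{u, v}) : PropMain.{u, v} :=
  mainOf hC RankOneIdent.unitary_case

/-- Suzuki's theorem on split rank-one groups. -/
theorem propMain : PropMain.{u, v} := mainOfCoords Coords.propCoords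

end Cfsg.Agent.Lib.BenderSuzuki
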